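import Mathlib
import Cfsg.Agent.H554.RV.Mat

/-!
# `PSL_n(q)`, `PSU_n(q)` with `2, 3 ∈ π`, `p ∉ π`, `p ≥ 5` : not `DB` (abstract main theorem) (helper554, TEAM RV)
-/

set_option autoImplicit false

namespace Cfsg.Agent.H554.RV

open Matrix Cfsg Cfsg.Agent.H988.CPi Cfsg.Agent.H571.DExt Cfsg.Agent.H571.RV

section Quat

variable {F : Type*} [Field F]

/-- the first quaternion -/
def qI : Matrix (Fin 2) (Fin 2) F := !![0, 1; -1, 0]

/-- the second quaternion, `a ^ 2 + c ^ 2 = -1` -/
def qJ (a c : F) : Matrix (Fin 2) (Fin 2) F := !![a, c; c, -a]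

/-- the Hurwitz unit of order `6` -/
noncomputable def qB (a c : F) : Matrix (Fin 2) (Fin 2) F := (2 : F)⁻¹ • (1 + qI + qJ a c + qI * qJ a c)

/-- the diagonal element of `A_4` -/
def tT : Matrix (Fin 3) (Fin 3) F := !![1, 0, 0; 0, -1, 0; 0, 0, -1]

/-- the cyclic permutation matrix -/
def tS : Matrix (Fin 3) (Fin 3) F := !![0, 0, 1; 1, 0, 0; 0, 1, 0]

theorem qII : (qI * qI : Matrix (Fin 2) (Fin 2) F) = -1 := by
  ext i j
  fin_cases i <;> fin_cases j <;> simp [qI, Matrix.mul_apply, Fin.sum_univ_two]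

variable {a c : F}

theorem qJJ (h : a * a + c * c = -1) : qJ a c * qJ a c = -1 := by
  ext i j
  fin_cases i <;> fin_cases j <;> simp [qJ, Matrix.mul_apply, Fin.sum_univ_two] <;>
    first | linear_combination h | ring

theorem qIJ : qI * qJ a c = -(qJ a c * qI) := by
  ext i j
  fin_cases i <;> fin_cases j <;> simp [qI, qJ, Matrix.mul_apply, Fin.sum_univ_two]

theorem qB_rel (h2 : (2 : F) ≠ 0) (h : a * a + c * c = -1) :
    qB a c * qI = qJ a c * qB a c ∧ qB a c * qJ a c = qI * qJ a c * qB a c := by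
  have II : (qI * qI : Matrix (Fin 2) (Fin 2) F) = -1 := qII
  have JJ := qJJ h
  have JI : qJ a c * qI = -(qI * qJ a c) := by rw [qIJ, neg_neg]
  have e1 : qI * (qI * qJ a c) = -qJ a c := by rw [← mul_assoc, II, neg_one_mul]
  have e2 : qJ a c * (qI * qJ a c) = qI := by rw [← mul_assoc, JI, neg_mul, mul_assoc, JJ, mul_neg, mul_one, neg_neg]
  have e3 : qI * qJ a c * qI = qJ a c := by rw [mul_assoc, JI, mul_neg, e1, neg_neg]
  have e4 : qI * qJ a c * qJ a c = -qI := by rw [mul_assoc, JJ, mul_neg, mul_one]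
  have e5 : qI * qJ a c * (qI * qJ a c) = -1 := by rw [mul_assoc, e2, II]
  constructor
  · rw [qB, smul_mul_assoc, mul_smul_comm]
    congr 1
    have h3 : (1 + qI + qJ a c + qI * qJ a c) * qI = qI + qI * qI + qJ a c * qI + qI * qJ a c * qI := by noncomm_ring
    have h4 : qJ a c * (1 + qI + qJ a c + qI * qJ a c) =
        qJ a c + qJ a c * qI + qJ a c * qJ a c + qJ a c * (qI * qJ a c) := by noncomm_ring
    rw [h3, h4, II, JJ, JI, e3, e2]
    abel
  · rw [qB, smul_mul_assoc, mul_smul_comm]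
    congr 1
    have h3 : (1 + qI + qJ a c + qI * qJ a c) * qJ a c =
        qJ a c + qI * qJ a c + qJ a c * qJ a c + qI * qJ a c * qJ a c := by noncomm_ring
    have h4 : qI * qJ a c * (1 + qI + qJ a c + qI * qJ a c) =
        qI * qJ a c + qI * qJ a c * qI + qI * qJ a c * qJ a c + qI * qJ a c * (qI * qJ a c) := by noncomm_ring
    rw [h3, h4, JJ, e3, e4, e5]
    abel

/-- transport to endomorphisms -/
theorem toLin_mul {m : ℕ} (A B : Matrix (Fin m) (Fin m) F) : toLin' (A * B) = (toLin' A * toLin' B : Module.End F _) :=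
  toLin'_mul A B

theorem qB_pow (h2 : (2 : F) ≠ 0) (h : a * a + c * c = -1) : qB a c ^ 3 = -1 := by
  have h1 := (hurwitz (I := toLin' (qI : Matrix (Fin 2) (Fin 2) F)) (J := toLin' (qJ a c)) h2
    (by rw [← toLin_mul, qII, map_neg, toLin'_one]; rfl) (by rw [← toLin_mul, qJJ h, map_neg, toLin'_one]; rfl)
    (by rw [← toLin_mul, ← toLin_mul, qIJ, map_neg]) (B := toLin' (qB a c))
    (by rw [qB, map_smul, map_add, map_add, map_add, toLin_mul, toLin'_one]; rfl)).2.1
  apply toLin'.injective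
  rw [map_neg, toLin'_one, pow_succ, pow_two, toLin_mul, toLin_mul]
  rw [pow_succ, pow_two] at h1
  exact h1

/-- an involution commuting with `I` and `J` is scalar -/
theorem irr_quat (h2 : (2 : F) ≠ 0) (h : a * a + c * c = -1) (M : Module.End F (Fin 2 → F))
    (h1 : M * toLin' qI = toLin' qI * M) (h3 : M * toLin' (qJ a c) = toLin' (qJ a c) * M) (hM : M * M = 1) :
    M = 1 ∨ M = -1 := by
  obtain ⟨A, rfl⟩ := toLin'.surjective M
  rw [← toLin_mul, ← toLin_mul] at h1 h3
  have h1' := toLin'.injective h1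
  have h3' := toLin'.injective h3
  have hM' : A * A = 1 := toLin'.injective (by rw [toLin_mul, hM, toLin'_one]; rfl)
  have a1 := congrFun (congrFun h1' 0) 0
  have a2 := congrFun (congrFun h1' 0) 1
  have b1 := congrFun (congrFun h3' 0) 0
  have b2 := congrFun (congrFun h3' 0) 1
  have b3 := congrFun (congrFun h3' 1) 0
  have m1 := congrFun (congrFun hM' 0) 0
  simp only [Matrix.mul_apply, Fin.sum_univ_two, qI, qJ, of_apply, cons_val', cons_val_zero, cons_val_one,
    cons_val_fin_one, one_apply_eq] at a1 a2 b1 b2 b3 m1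
  have h10 : A 1 0 = - A 0 1 := by linear_combination -a1
  have h11 : A 1 1 = A 0 0 := by linear_combination -a2
  rw [h10] at b1 m1
  rw [h11] at b2
  have c1 : A 0 1 * c = 0 := by
    have : (2 : F) * (A 0 1 * c) = 0 := by linear_combination b1
    exact (mul_eq_zero.mp this).resolve_left h2
  have c2 : A 0 1 * a = 0 := by
    have : (2 : F) * (A 0 1 * a) = 0 := by linear_combination -b2
    exact (mul_eq_zero.mp this).resolve_left h2
  have h01 : A 0 1 = 0 := by linear_combination -c1 * c - c2 * a + A 0 1 * h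
  rw [h01, neg_zero] at h10
  rw [h01] at m1
  have h00 : (A 0 0 - 1) * (A 0 0 + 1) = 0 := by linear_combination m1
  rcases mul_eq_zero.mp h00 with h4 | h4
  · left
    have h5 : A = 1 := by
      ext i j
      fin_cases i <;> fin_cases j
      · simpa using sub_eq_zero.mp h4
      · simpa using h01
      · simpa using h10
      · simpa [h11] using sub_eq_zero.mp h4
    rw [h5, toLin'_one]; rfl
  · right
    have h5 : A = -1 := by
      ext i j
      fin_cases i <;> fin_cases j
      · simpa using eq_neg_of_add_eq_zero_left h4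
      · simpa using h01
      · simpa using h10
      · simpa [h11] using eq_neg_of_add_eq_zero_left h4
    rw [h5, map_neg, toLin'_one]; rfl

end Quat

section Main

variable {F : Type*} [Field F] {n : ℕ}

/-- the coordinates of the planes of the frame -/
def ei (n : ℕ) (i : Fin (n / 2)) (j : Fin 2) : Fin n := ⟨2 * i + j, by have := i.2; have := j.2; omega⟩

theorem ei_inj (i : Fin (n / 2)) : Function.Injective (ei n i) := by
  intro j k h
  have h1 := congrArg Fin.val h
  apply Fin.ext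
  simp only [ei] at h1
  omega

theorem ei_ne {i i' : Fin (n / 2)} (h : i ≠ i') (j j' : Fin 2) : ei n i j ≠ ei n i' j' := by
  intro h1
  have h2 := congrArg Fin.val h1
  apply h
  apply Fin.ext
  simp only [ei] at h2
  have := j.2
  have := j'.2
  omega

theorem card_fiber {G : Type*} [Group G] [Finite G] {p : ℕ} [Fact p.Prime] {π : Set ℕ} (hp : p ∉ π)
    (hZ : ¬ p ∣ Nat.card (Subgroup.center G)) {H : Subgroup (G ⧸ Subgroup.center G)} (hH : PiN π (Nat.card H)) :
    ¬ p ∣ Nat.card (H.comap (QuotientGroup.mk' (Subgroup.center G))) := by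
  intro hd
  obtain ⟨x, hx⟩ := exists_prime_orderOf_dvd_card' p hd
  have h1 : ((x : G)) ^ p = 1 := by
    have := pow_orderOf_eq_one x
    rw [hx] at this
    exact congrArg Subtype.val this
  have h2 : QuotientGroup.mk' (Subgroup.center G) (x : G) = 1 := by
    have h3 : (⟨QuotientGroup.mk' (Subgroup.center G) (x : G), x.2⟩ : H) ^ p = 1 := by
      apply Subtype.ext
      change (QuotientGroup.mk' (Subgroup.center G) (x : G)) ^ p = 1
      rw [← map_pow, h1, map_one]
    have h4 := orderOf_dvd_of_pow_eq_one h3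
    rcases (Nat.dvd_prime (Fact.out : p.Prime)).mp h4 with h5 | h5
    · exact congrArg Subtype.val (orderOf_eq_one_iff.mp h5)
    · exfalso
      apply hp
      apply hH p Fact.out
      rw [← h5]
      exact orderOf_dvd_natCard _
  have h3 : (x : G) ∈ Subgroup.center G := (QuotientGroup.eq_one_iff _).mp h2
  apply hZ
  have h4 : orderOf (⟨(x : G), h3⟩ : Subgroup.center G) = p := by
    rw [← hx, ← Subgroup.orderOf_coe, ← Subgroup.orderOf_coe]
  rw [← h4]
  exact orderOf_dvd_natCard _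

/-- **Main theorem, matrix form.** -/
theorem not_DB_of {p : ℕ} [Fact p.Prime] [CharP F p] (h5 : 5 ≤ p) (hn : 3 ≤ n)
    {G : Type*} [Group G] [Finite G] (M : G →* Matrix (Fin n) (Fin n) F) (hM : Function.Injective M) {a c : F}
    (hac : a * a + c * c = -1)
    (hblk : ∀ e : Fin 2 → Fin n, Function.Injective e → ∀ A : Matrix (Fin 2) (Fin 2) F,
      A = qI ∨ A = qJ a c ∨ A = qB a c → ∃ g : G, M g = bm e A)
    (hblk3 : ∀ e : Fin 3 → Fin n, Function.Injective e → ∀ A : Matrix (Fin 3) (Fin 3) F,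
      A = tT ∨ A = tS → ∃ g : G, M g = bm e A)
    (haut : ∀ α : MulAut (G ⧸ Subgroup.center G), ∃ C D : Matrix (Fin n) (Fin n) F, C * D = 1 ∧
      ∀ g : G, M g = bm (Fin.castLE hn) tT ∨ M g = bm (Fin.castLE hn) tS →
        ∃ g' : G, α (QuotientGroup.mk g) = QuotientGroup.mk g' ∧ M g' = C * M g * D)
    (hZ : ¬ p ∣ Nat.card (Subgroup.center G)) {π : Set ℕ} (h2 : 2 ∈ π) (h3 : 3 ∈ π) (hp : p ∉ π) :
    ¬ DB π (G ⧸ Subgroup.center G) := by
  intro hDB
  have two : (2 : F) ≠ 0 := by
    intro h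
    have h6 : p ∣ 2 := (CharP.cast_eq_zero_iff F p 2).mp (by exact_mod_cast h)
    have := Nat.le_of_dvd (by norm_num) h6
    omega
  obtain ⟨rBI, rBJ⟩ := qB_rel two hac
  have rB3 := qB_pow two hac
  -- the frame group
  choose X hX using fun i : Fin (n / 2) => hblk (ei n i) (ei_inj i) qI (Or.inl rfl)
  choose Y hY using fun i : Fin (n / 2) => hblk (ei n i) (ei_inj i) (qJ a c) (Or.inr (Or.inl rfl))
  choose B hB using fun i : Fin (n / 2) => hblk (ei n i) (ei_inj i) (qB a c) (Or.inr (Or.inr rfl))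
  have hq : ∀ i, PiN π (Nat.card (Subgroup.zpowers (B i) ⊔ (Subgroup.zpowers (Y i) ⊔ Subgroup.zpowers (X i)) :
      Subgroup G)) := by
    intro i
    have s1 : ∀ A : Matrix (Fin 2) (Fin 2) F, A * A = -1 → A * A * (A * A) = 1 := by
      intro A hA; rw [hA]; noncomm_ring
    have pow4 : ∀ {g : G} {A : Matrix (Fin 2) (Fin 2) F}, M g = bm (ei n i) A → A * A = -1 → g ^ 4 = 1 := by
      intro g A hg hA
      apply hM
      have : g ^ 4 = g * g * (g * g) := by simp only [pow_succ, pow_zero, one_mul, mul_assoc]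
      rw [this, map_mul, map_mul, hg, bm_mul (ei_inj i), bm_mul (ei_inj i), s1 A hA, bm_one, map_one]
    refine piN_quat h2 h3 (pow4 (hX i) qII) (pow4 (hY i) (qJJ hac)) ?_ ?_ ?_ ?_
    · apply hM
      have : B i ^ 6 = B i * B i * B i * (B i * B i * B i) := by
        simp only [pow_succ, pow_zero, one_mul, mul_assoc]
      have e1 : qB a c * qB a c * qB a c = -1 := by rw [← rB3, pow_succ, pow_two]
      rw [this, map_mul, map_mul, map_mul, hB, bm_mul (ei_inj i), bm_mul (ei_inj i), e1, bm_mul (ei_inj i),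
        neg_mul_neg, one_mul, bm_one, map_one]
    · rw [mul_inv_eq_iff_eq_mul]
      apply eq_inv_mul_of_mul_eq
      apply hM
      rw [map_mul, map_mul, hX, hY, bm_mul (ei_inj i), bm_mul (ei_inj i), ← mul_assoc, qIJ, neg_mul, mul_assoc, qII,
        mul_neg, mul_one, neg_neg]
    · rw [mul_inv_eq_iff_eq_mul]
      apply hM
      rw [map_mul, map_mul, hX, hY, hB, bm_mul (ei_inj i), bm_mul (ei_inj i), rBI]
    · rw [mul_inv_eq_iff_eq_mul]
      apply hM
      rw [map_mul, map_mul, map_mul, hX, hY, hB, bm_mul (ei_inj i), bm_mul (ei_inj i), bm_mul (ei_inj i), rBJ]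
  set Q : Fin (n / 2) → Subgroup G := fun i => Subgroup.zpowers (B i) ⊔ (Subgroup.zpowers (Y i) ⊔
    Subgroup.zpowers (X i)) with hQ
  have hcomm : ∀ i j, i ≠ j → ∀ u ∈ Q i, ∀ v ∈ Q j, u * v = v * u := by
    intro i j hij
    have gen : ∀ {A A' : Matrix (Fin 2) (Fin 2) F} {u v : G}, M u = bm (ei n i) A → M v = bm (ei n j) A' →
        v ∈ Subgroup.centralizer {u} := by
      intro A A' u v hu hv
      rw [Subgroup.mem_centralizer_singleton_iff]
      apply hM
      rw [map_mul, map_mul, hu, hv, bm_comm (fun k l => ei_ne hij k l)]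
    have c1 : ∀ {A : Matrix (Fin 2) (Fin 2) F} {u : G}, M u = bm (ei n i) A → Q j ≤ Subgroup.centralizer {u} := by
      intro A u hu
      refine sup_le ?_ (sup_le ?_ ?_)
      · exact Subgroup.zpowers_le.mpr (gen hu (hB j))
      · exact Subgroup.zpowers_le.mpr (gen hu (hY j))
      · exact Subgroup.zpowers_le.mpr (gen hu (hX j))
    intro u hu v hv
    have c2 : Q i ≤ Subgroup.centralizer {v} := by
      have c3 : ∀ {A : Matrix (Fin 2) (Fin 2) F} {w : G}, M w = bm (ei n i) A → w ∈ Subgroup.centralizer {v} := by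
        intro A w hw
        have h6 := c1 hw hv
        rw [Subgroup.mem_centralizer_singleton_iff] at h6 ⊢
        exact h6.symm
      refine sup_le ?_ (sup_le ?_ ?_)
      · exact Subgroup.zpowers_le.mpr (c3 (hB i))
      · exact Subgroup.zpowers_le.mpr (c3 (hY i))
      · exact Subgroup.zpowers_le.mpr (c3 (hX i))
    have h6 := c2 hu
    rw [Subgroup.mem_centralizer_singleton_iff] at h6
    exact h6
  have hQall := piN_iSup Q hq hcomm
  -- the group `A_4`
  have h3inj : Function.Injective (Fin.castLE hn : Fin 3 → Fin n) := Fin.castLE_injective hn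
  obtain ⟨t, ht⟩ := hblk3 _ h3inj tT (Or.inl rfl)
  obtain ⟨y, hy⟩ := hblk3 _ h3inj tS (Or.inr rfl)
  have tt : (tT * tT : Matrix (Fin 3) (Fin 3) F) = 1 := by
    ext i j
    fin_cases i <;> fin_cases j <;> simp [tT, Matrix.mul_apply, Fin.sum_univ_three]
  have sss : (tS * tS * tS : Matrix (Fin 3) (Fin 3) F) = 1 := by
    ext i j
    fin_cases i <;> fin_cases j <;> simp [tS, Matrix.mul_apply, Fin.sum_univ_three]
  have st : (tS * tT * (tS * tS) * tT : Matrix (Fin 3) (Fin 3) F) = tT * (tS * tT * (tS * tS)) := by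
    ext i j
    fin_cases i <;> fin_cases j <;> simp [tS, tT, Matrix.mul_apply, Fin.sum_univ_three]
  have sst : (tS * (tS * tT * (tS * tS)) * (tS * tS) : Matrix (Fin 3) (Fin 3) F) = tT * (tS * tT * (tS * tS)) := by
    ext i j
    fin_cases i <;> fin_cases j <;> simp [tS, tT, Matrix.mul_apply, Fin.sum_univ_three]
  have hy3 : y ^ 3 = 1 := by
    apply hM
    rw [map_pow, hy, pow_succ, pow_two, bm_mul h3inj, bm_mul h3inj, sss, bm_one, map_one]
  have ht2 : t ^ 2 = 1 := by
    apply hM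
    rw [map_pow, ht, pow_two, bm_mul h3inj, tt, bm_one, map_one]
  have hyinv : M y⁻¹ = bm (Fin.castLE hn) (tS * tS) := by
    have : y⁻¹ = y * y := by
      rw [inv_eq_iff_mul_eq_one, ← hy3]
      simp only [pow_succ, pow_zero, one_mul, mul_assoc]
    rw [this, map_mul, hy, bm_mul h3inj]
  have hK2 := piN_alt (π := π) h2 h3 ht2 hy3
    (by
      apply hM
      simp only [map_mul, ht, hy, hyinv, bm_mul h3inj]
      rw [st])
    (by
      apply hM
      simp only [map_mul, ht, hy, hyinv, bm_mul h3inj]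
      rw [sst])
  set f := QuotientGroup.mk' (Subgroup.center G) with hf
  obtain ⟨H1, hH1, hK1'⟩ := hDB.dom ((⨆ i, Q i).map f) (hQall.of_dvd (Subgroup.card_map_dvd _ _))
  obtain ⟨H2, hH2, hK2'⟩ := hDB.dom (Subgroup.map f (Subgroup.zpowers y ⊔ (Subgroup.zpowers (y * t * y⁻¹) ⊔
    Subgroup.zpowers t))) (hK2.of_dvd (Subgroup.card_map_dvd _ _))
  obtain ⟨𝒜, -, h𝒜, -⟩ := hDB.out
  obtain ⟨α, -, hα⟩ := h𝒜 H2 H1 hH2 hH1
  obtain ⟨C, D, hCD, hCD'⟩ := haut α
  have hDC : D * C = 1 := mul_eq_one_comm.mp hCD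
  -- the preimage
  set X' : Subgroup G := H1.comap f with hX'
  have hcard : ¬ p ∣ Nat.card X' := card_fiber hp hZ hH1.1
  have hmem : ∀ {g : G}, g ∈ (⨆ i, Q i : Subgroup G) → g ∈ X' := fun {g} hg => hK1' ⟨g, hg, rfl⟩
  have hmem2 : ∀ {g g' : G}, g ∈ (Subgroup.zpowers y ⊔ (Subgroup.zpowers (y * t * y⁻¹) ⊔
      Subgroup.zpowers t) : Subgroup G) → α (QuotientGroup.mk g) = QuotientGroup.mk g' → g' ∈ X' := by
    intro g g' hg hg'
    change f g' ∈ H1
    rw [hα]
    exact ⟨f g, hK2' ⟨g, hg, rfl⟩, hg'⟩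
  obtain ⟨t', ht'α, ht'⟩ := hCD' t (Or.inl ht)
  obtain ⟨y', hy'α, hy'⟩ := hCD' y (Or.inr hy)
  have ht'X : t' ∈ X' := hmem2 (Subgroup.mem_sup_right (Subgroup.mem_sup_right (Subgroup.mem_zpowers t))) ht'α
  have hy'X : y' ∈ X' := hmem2 (Subgroup.mem_sup_left (Subgroup.mem_zpowers y)) hy'α
  -- the representation
  let ρ : X' →* Module.End F (Fin n → F) :=
    { toFun := fun x => toLin' (M x)
      map_one' := by rw [Subgroup.coe_one, map_one, toLin'_one]; rfl
      map_mul' := fun u v => by rw [Subgroup.coe_mul, map_mul, toLin_mul] }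
  have hρ : ∀ x : X', ρ x = toLin' (M x) := fun x => rfl
  have hfr : Frm ρ (fun i => toLin' (Em F (ei n i))) (fun i => toLin' (Rm F (ei n i)))
      (toLin' qI) (toLin' (qJ a c)) := by
    refine ⟨?_, two, ?_, ?_, ?_, ?_, ?_, ?_, ?_, irr_quat two hac, ?_, ?_, ?_⟩
    · intro u v hu hv
      exact Cfsg.Agent.H170.RV.t60_mod p h5 hcard ρ u v hu hv
    · intro i w
      rw [← LinearMap.comp_apply, ← toLin'_mul, RE_one (ei_inj i), toLin'_one, LinearMap.id_apply]
    · intro i j w hij
      rw [← LinearMap.comp_apply, ← toLin'_mul, RE_zero (fun k l => ei_ne hij k l), map_zero, LinearMap.zero_apply]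
    · rw [Module.finrank_fin_fun]
    · rw [Module.finrank_fin_fun, Fintype.card_fin]
      omega
    · rw [← toLin_mul, qII, map_neg, toLin'_one]; rfl
    · rw [← toLin_mul, qJJ hac, map_neg, toLin'_one]; rfl
    · rw [← toLin_mul, ← toLin_mul, qIJ, map_neg]
    · intro i
      have hmB : B i ∈ (⨆ i, Q i : Subgroup G) := (le_iSup Q i) (Subgroup.mem_sup_left (Subgroup.mem_zpowers (B i)))
      refine ⟨⟨B i, hmem hmB⟩, ?_⟩
      rw [hρ, hB, toLin_bm]
      congr 1
      rw [qB, map_smul, map_add, map_add, map_add, toLin_mul, toLin'_one]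
      rfl
    · intro i
      have hmX : X i ∈ (⨆ i, Q i : Subgroup G) := (le_iSup Q i)
        (Subgroup.mem_sup_right (Subgroup.mem_sup_right (Subgroup.mem_zpowers (X i))))
      refine ⟨⟨X i, hmem hmX⟩, ?_⟩
      rw [hρ, hX, toLin_bm]
    · intro i
      have hmY : Y i ∈ (⨆ i, Q i : Subgroup G) := (le_iSup Q i)
        (Subgroup.mem_sup_right (Subgroup.mem_sup_left (Subgroup.mem_zpowers (Y i))))
      refine ⟨⟨Y i, hmem hmY⟩, ?_⟩
      rw [hρ, hY, toLin_bm]
  refine hfr.false_of_A4 (E₀ := toLin' (C * Em F (Fin.castLE hn))) (R₀ := toLin' (Rm F (Fin.castLE hn) * D)) ?_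
    (τ := toLin' tT) (σ := toLin' tS) ?_ ?_ (t := ⟨t', ht'X⟩) (y := ⟨y', hy'X⟩) ?_ ?_
  · intro w
    rw [← LinearMap.comp_apply, ← toLin'_mul]
    have : Rm F (Fin.castLE hn) * D * (C * Em F (Fin.castLE hn)) = 1 := by
      calc Rm F (Fin.castLE hn) * D * (C * Em F (Fin.castLE hn))
          = Rm F (Fin.castLE hn) * (D * C) * Em F (Fin.castLE hn) := by simp only [Matrix.mul_assoc]
        _ = 1 := by rw [hDC, Matrix.mul_one, RE_one h3inj]
    rw [this, toLin'_one, LinearMap.id_apply]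
  · intro w
    rw [toLin'_apply]
    ext i
    fin_cases i <;> simp [tT, mulVec, dotProduct, Fin.sum_univ_three]
  · intro w
    rw [toLin'_apply]
    ext i
    fin_cases i <;> simp [tS, mulVec, dotProduct, Fin.sum_univ_three]
  · rw [hρ]
    change toLin' (M t') = _
    rw [ht', ht, toLin_conj _ hCD]
  · rw [hρ]
    change toLin' (M y') = _
    rw [hy', hy, toLin_conj _ hCD]

end Main

end Cfsg.Agent.H554.RV
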