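import Mathlib
import Cfsg.Agent.H554.RV.Main
import Cfsg.Agent.H808.RV.Iso
import Cfsg.Agent.ClassicalGeometry.AutPSL.Main

/-!
# `PSL_n(q)`, `n ≥ 3`, `2, 3 ∈ π`, `p ∉ π` : not `DB` (helper554, TEAM RV)
-/

set_option autoImplicit false

namespace Cfsg.Agent.H554.RV

open Matrix Cfsg Cfsg.Agent.H988.CPi Cfsg.Agent.H571.DExt Cfsg.Agent.H571.RV

section General

variable {F : Type*} [Field F] {n m : ℕ}

theorem transpose_bm (e : Fin m → Fin n) (A : Matrix (Fin m) (Fin m) F) : (bm e A)ᵀ = bm e Aᵀ := by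
  have h1 : (Em F e)ᵀ = Rm F e := by
    ext i j
    simp only [Em, Rm, transpose_apply, submatrix_apply, id_eq, one_apply, eq_comm]
  have h2 : (Rm F e)ᵀ = Em F e := by rw [← h1, transpose_transpose]
  rw [bm, bm, transpose_add, transpose_mul, transpose_mul, h1, h2, transpose_sub, transpose_one, transpose_one,
    Matrix.mul_assoc]

theorem map_bm (σ : F →+* F) (e : Fin m → Fin n) (A : Matrix (Fin m) (Fin m) F) : (bm e A).map σ = bm e (A.map σ) := by
  have h1 : (Em F e).map σ = Em F e := by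
    ext i j
    simp only [Em, Matrix.map_apply, submatrix_apply, id_eq, one_apply]
    split_ifs <;> simp
  have h2 : (Rm F e).map σ = Rm F e := by
    ext i j
    simp only [Rm, Matrix.map_apply, submatrix_apply, id_eq, one_apply]
    split_ifs <;> simp
  have hs : ∀ {a b : ℕ} (X Y : Matrix (Fin a) (Fin b) F), (X + Y).map σ = X.map σ + Y.map σ := fun X Y =>
    Matrix.map_add σ (map_add σ) X Y
  rw [bm, bm, hs, Matrix.map_mul, Matrix.map_mul, h1, h2, Matrix.map_sub σ (map_sub σ), Matrix.map_one σ (map_zero σ)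
    (map_one σ), Matrix.map_one σ (map_zero σ) (map_one σ)]

theorem map_tT (σ : F →+* F) : (tT : Matrix (Fin 3) (Fin 3) F).map σ = tT := by
  ext i j
  fin_cases i <;> fin_cases j <;> simp [tT]

theorem map_tS (σ : F →+* F) : (tS : Matrix (Fin 3) (Fin 3) F).map σ = tS := by
  ext i j
  fin_cases i <;> fin_cases j <;> simp [tS]

theorem tT_orth : (tT * tTᵀ : Matrix (Fin 3) (Fin 3) F) = 1 := by
  ext i j
  fin_cases i <;> fin_cases j <;> simp [tT, Matrix.mul_apply, Fin.sum_univ_three]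

theorem tS_orth : (tS * tSᵀ : Matrix (Fin 3) (Fin 3) F) = 1 := by
  ext i j
  fin_cases i <;> fin_cases j <;> simp [tS, Matrix.mul_apply, Fin.sum_univ_three]

theorem det_tT : (tT : Matrix (Fin 3) (Fin 3) F).det = 1 := by
  simp [tT, det_fin_three]

theorem det_tS : (tS : Matrix (Fin 3) (Fin 3) F).det = 1 := by
  simp [tS, det_fin_three]

theorem det_qI : (qI : Matrix (Fin 2) (Fin 2) F).det = 1 := by
  simp [qI, det_fin_two]

theorem det_qJ {a c : F} (h : a * a + c * c = -1) : (qJ a c).det = 1 := by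
  simp [qJ, det_fin_two]
  linear_combination -h

theorem qB_eq {a c : F} : qB a c = !![2⁻¹ * (1 + a + c), 2⁻¹ * (1 + c - a); 2⁻¹ * (-1 + c - a), 2⁻¹ * (1 - a - c)] := by
  ext i j
  fin_cases i <;> fin_cases j <;> simp [qB, qI, qJ, Matrix.mul_apply, Fin.sum_univ_two] <;>
    first | ring1 | (left; ring1)

theorem det_qB {a c : F} (h2 : (2 : F) ≠ 0) (h : a * a + c * c = -1) : (qB a c).det = 1 := by
  rw [qB_eq, det_fin_two_of]
  field_simp
  linear_combination -2 * h

theorem det_of {a c : F} (h2 : (2 : F) ≠ 0) (h : a * a + c * c = -1) {A : Matrix (Fin 2) (Fin 2) F}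
    (hA : A = qI ∨ A = qJ a c ∨ A = qB a c) : A.det = 1 := by
  rcases hA with rfl | rfl | rfl
  · exact det_qI
  · exact det_qJ h
  · exact det_qB h2 h

theorem det_of3 {A : Matrix (Fin 3) (Fin 3) F} (hA : A = tT ∨ A = tS) : A.det = 1 := by
  rcases hA with rfl | rfl
  · exact det_tT
  · exact det_tS

end General

section Linear

variable {F : Type*} [Field F] [Finite F] {n : ℕ} {p : ℕ} [hp : Fact p.Prime] [CharP F p]

/-- the matrices -/
def slM (n : ℕ) (F : Type*) [Field F] : SpecialLinearGroup (Fin n) F →* Matrix (Fin n) (Fin n) F where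
  toFun g := g.1
  map_one' := rfl
  map_mul' _ _ := rfl

omit [Finite F] in
theorem two_ne (h5 : 5 ≤ p) : (2 : F) ≠ 0 := by
  intro h
  have h6 : p ∣ 2 := (CharP.cast_eq_zero_iff F p 2).mp (by exact_mod_cast h)
  have := Nat.le_of_dvd (by norm_num) h6
  omega

theorem center_sl : ¬ p ∣ Nat.card (Subgroup.center (SpecialLinearGroup (Fin n) F)) := by
  intro hd
  obtain ⟨x, hx⟩ := exists_prime_orderOf_dvd_card' p hd
  have e := SpecialLinearGroup.center_equiv_rootsOfUnity (n := Fin n) (R := F)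
  have h1 : orderOf (e x) = p := by rw [MulEquiv.orderOf_eq, hx]
  have h2 : (((e x : Fˣ) : F)) ^ p = 1 := by
    have := pow_orderOf_eq_one (e x)
    rw [h1] at this
    have h3 := congrArg (fun u => (((u : rootsOfUnity _ F) : Fˣ) : F)) this
    simpa using h3
  have h4 : (((e x : Fˣ) : F) - 1) ^ p = 0 := by
    rw [sub_pow_char, h2, one_pow, sub_self]
  have h5 : ((e x : Fˣ) : F) = 1 := sub_eq_zero.mp (pow_eq_zero_iff hp.out.ne_zero |>.mp h4)
  have h6 : e x = 1 := by
    apply Subtype.ext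
    apply Units.ext
    exact h5
  rw [h6, orderOf_one] at h1
  exact hp.out.one_lt.ne h1

/-- **`PSL_n(q)`, `n ≥ 3`.** -/
theorem not_DB_psl (h5 : 5 ≤ p) (hn : 3 ≤ n) {π : Set ℕ} (h2 : 2 ∈ π) (h3 : 3 ∈ π) (hpπ : p ∉ π) :
    ¬ DB π (ProjectiveSpecialLinearGroup (Fin n) F) := by
  have two : (2 : F) ≠ 0 := two_ne (p := p) h5
  have : NeZero p := ⟨hp.out.ne_zero⟩
  obtain ⟨a, c, hac'⟩ := CharP.sq_add_sq F p (-1)
  have hac : (a : F) * a + (c : F) * c = -1 := by
    rw [← pow_two, ← pow_two]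
    simpa using hac'
  refine not_DB_of (p := p) h5 hn (slM n F) (fun g g' h => Subtype.ext h) hac ?_ ?_ ?_ center_sl h2 h3 hpπ
  · intro e he A hA
    exact ⟨⟨bm e A, by rw [det_bm he, det_of two hac hA]⟩, rfl⟩
  · intro e he A hA
    exact ⟨⟨bm e A, by rw [det_bm he, det_of3 hA]⟩, rfl⟩
  · intro α
    have hfix : ∀ (σ : F →+* F) (g : SpecialLinearGroup (Fin n) F),
        slM n F g = bm (Fin.castLE hn) tT ∨ slM n F g = bm (Fin.castLE hn) tS → (g.1).map σ = g.1 := by
      intro σ g hg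
      rcases hg with hg | hg
      · change ((slM n F g)).map σ = slM n F g
        rw [hg, map_bm, map_tT]
      · change ((slM n F g)).map σ = slM n F g
        rw [hg, map_bm, map_tS]
    have hT : ∀ (g : SpecialLinearGroup (Fin n) F),
        slM n F g = bm (Fin.castLE hn) tT ∨ slM n F g = bm (Fin.castLE hn) tS → (g⁻¹).transpose = g := by
      intro g hg
      have h1 : g * g.transpose = 1 := by
        apply Subtype.ext
        change slM n F g * (slM n F g)ᵀ = 1
        rcases hg with hg | hg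
        · rw [hg, transpose_bm, bm_mul (Fin.castLE_injective hn), tT_orth, bm_one]
        · rw [hg, transpose_bm, bm_mul (Fin.castLE_injective hn), tS_orth, bm_one]
      have h4 : g⁻¹ = g.transpose := (eq_inv_of_mul_eq_one_right h1).symm
      rw [h4]
      apply Subtype.ext
      exact Matrix.transpose_transpose _
    have := Fintype.ofFinite F
    rcases Cfsg.Agent.ClassicalGeometry.AutPSL.Main.surj_three p hn α with ⟨A, σ, rfl⟩ | ⟨A, σ, rfl⟩
    · refine ⟨(A : Matrix (Fin n) (Fin n) F), ((A⁻¹ : GL (Fin n) F) : Matrix (Fin n) (Fin n) F), ?_, ?_⟩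
      · rw [← Units.val_mul, mul_inv_cancel, Units.val_one]
      · intro g hg
        refine ⟨_, rfl, ?_⟩
        change (A : Matrix (Fin n) (Fin n) F) * (g.1).map σ * ((A⁻¹ : GL (Fin n) F) : Matrix (Fin n) (Fin n) F) = _
        have e1 : (g.1).map σ = g.1 := hfix (σ : F →+* F) g hg
        rw [e1]
        rfl
    · refine ⟨(A : Matrix (Fin n) (Fin n) F), ((A⁻¹ : GL (Fin n) F) : Matrix (Fin n) (Fin n) F), ?_, ?_⟩
      · rw [← Units.val_mul, mul_inv_cancel, Units.val_one]
      · intro g hg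
        refine ⟨_, rfl, ?_⟩
        change (A : Matrix (Fin n) (Fin n) F) * (((g⁻¹).transpose).1).map σ *
          ((A⁻¹ : GL (Fin n) F) : Matrix (Fin n) (Fin n) F) = _
        have e1 : (g.1).map σ = g.1 := hfix (σ : F →+* F) g hg
        rw [hT g hg, e1]
        rfl

end Linear

universe u

/-- **Row R5, `PSL_n(q)`, `n ≥ 3`.** -/
theorem psl_row {π : Set ℕ} {S : Type u} [Group S] {p : ℕ} (h2 : 2 ∈ π) (h3 : 3 ∈ π) (hp : p.Prime)
    (hpπ : p ∉ π) {F : Type*} [Field F] [Finite F] [CharP F p] {n : ℕ} (hn : 3 ≤ n)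
    (e : S ≃* ProjectiveSpecialLinearGroup (Fin n) F) : ¬ DB π S := by
  have : Fact p.Prime := ⟨hp⟩
  have h5 : 5 ≤ p := by
    have h6 : p ≠ 2 := fun h => hpπ (h ▸ h2)
    have h7 : p ≠ 3 := fun h => hpπ (h ▸ h3)
    have h8 := hp.two_le
    by_contra h9
    have h10 : p = 4 := by omega
    rw [h10] at hp
    exact absurd hp (by norm_num)
  intro h
  exact not_DB_psl (F := F) (n := n) h5 hn h2 h3 hpπ (Cfsg.Agent.H808.RV.DB.congr e h)

end Cfsg.Agent.H554.RV
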