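import Mathlib
import Cfsg.Agent.H554.RV.Lin
import Cfsg.Agent.ClassicalGeometry.PSUAutMain
import Cfsg.Agent.S0279
import Cfsg.Prelude.Def_LieTypeChar

/-!
# `PSU_n(q)`, `n ≥ 3`, `2, 3 ∈ π`, `p ∉ π` : not `DB` (helper554, TEAM RV)
-/

set_option autoImplicit false

namespace Cfsg.Agent.H554.RV

open Matrix Cfsg Cfsg.Agent.H988.CPi Cfsg.Agent.H571.DExt Cfsg.Agent.H571.RV
open Cfsg.Agent.LieClassical.HermBasic
open Cfsg.Agent.LieClassical.HermSiegel (mat mat_injective mat_mul)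

theorem exists_sq_add_sq' {F : Type*} [Field F] [Finite F] (h2 : (2 : F) ≠ 0) (c : F) :
    ∃ a b : F, a * a + b * b = c := by
  have : Fintype F := Fintype.ofFinite F
  have hodd : Fintype.card F % 2 = 1 := by
    apply FiniteField.odd_card_of_char_ne_two
    intro h
    exact h2 (by exact_mod_cast (ringChar.spec F 2).2 (by rw [h]))
  obtain ⟨a, b, h⟩ := FiniteField.exists_root_sum_quadratic (R := F) (f := Polynomial.X ^ 2 - Polynomial.C c)
    (g := Polynomial.X ^ 2)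
    (Polynomial.degree_X_pow_sub_C (by norm_num) _) (Polynomial.degree_X_pow 2) hodd
  refine ⟨a, b, ?_⟩
  simp only [Polynomial.eval_sub, Polynomial.eval_pow, Polynomial.eval_X, Polynomial.eval_C] at h
  linear_combination h

section

variable {F : Type*} [Field F] [Fintype F] {q n : ℕ}

/-- the fixed field -/
def fixF (hF : Fintype.card F = q ^ 2) : Subfield F where
  carrier := {x | x ^ q = x}
  mul_mem' {a b} ha hb := by
    change (a * b) ^ q = a * b
    rw [mul_pow, show a ^ q = a from ha, show b ^ q = b from hb]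
  one_mem' := one_pow q
  add_mem' {a b} ha hb := by
    change (a + b) ^ q = a + b
    rw [add_pow_q hF, show a ^ q = a from ha, show b ^ q = b from hb]
  zero_mem' := zero_pow_q hF
  neg_mem' {a} ha := by
    change (-a) ^ q = -a
    rw [neg_pow_q hF, show a ^ q = a from ha]
  inv_mem' a ha := by
    change (a⁻¹) ^ q = a⁻¹
    rw [inv_pow, show a ^ q = a from ha]

/-- the entries of the second quaternion in the unitary case -/
theorem exists_anti (hF : Fintype.card F = q ^ 2) (h2 : (2 : F) ≠ 0) :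
    ∃ a c : F, a * a + c * c = -1 ∧ a ^ q = -a ∧ c ^ q = -c := by
  obtain ⟨δ, hδ0, hδ⟩ := exists_trace_zero_ne hF
  have hδ' : δ ^ q = -δ := by linear_combination hδ
  have hm : -(δ * δ)⁻¹ ∈ fixF hF := by
    refine neg_mem (inv_mem ?_)
    change (δ * δ) ^ q = δ * δ
    rw [mul_pow, hδ']; ring
  obtain ⟨⟨u, hu⟩, ⟨v, hv⟩, huv⟩ := exists_sq_add_sq' (F := fixF hF)
    (fun h => h2 (congrArg Subtype.val h)) ⟨_, hm⟩
  have huv' : u * u + v * v = -(δ * δ)⁻¹ := congrArg Subtype.val huv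
  refine ⟨δ * u, δ * v, ?_, ?_, ?_⟩
  · have : δ * u * (δ * u) + δ * v * (δ * v) = δ * δ * (u * u + v * v) := by ring
    rw [this, huv', mul_neg, mul_inv_cancel₀ (mul_ne_zero hδ0 hδ0)]
  · rw [mul_pow, hδ', show u ^ q = u from hu, neg_mul]
  · rw [mul_pow, hδ', show v ^ q = v from hv, neg_mul]

/-- membership in `SU` -/
theorem mem_SU_of (hF : Fintype.card F = q ^ 2) {g : SpecialLinearGroup (Fin n) F}
    (h : (g.1)ᵀ * (g.1).map (conj hF) = 1) : g ∈ SU n F q := by
  rw [mem_SU_iff]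
  have key : ∀ u v : Fin n → F, hermForm n F q u v = u ⬝ᵥ (fun i => conj hF (v i)) := fun u v => rfl
  have h1 : ∀ v : Fin n → F, (fun i => conj hF ((g.1 *ᵥ v) i)) = (g.1).map (conj hF) *ᵥ fun i => conj hF (v i) := by
    intro v
    ext i
    simp [Matrix.mulVec, dotProduct]
  intro u v
  rw [key, key, h1, Matrix.dotProduct_mulVec, ← Matrix.mulVec_transpose, Matrix.mulVec_mulVec]
  have h3 : ((g.1).map (conj hF))ᵀ * g.1 = 1 := by
    have h4 := congrArg Matrix.transpose h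
    rwa [transpose_mul, transpose_transpose, transpose_one] at h4
  rw [h3, Matrix.one_mulVec]

theorem uni_block (hF : Fintype.card F = q ^ 2) {m : ℕ} {e : Fin m → Fin n} (he : Function.Injective e)
    {A : Matrix (Fin m) (Fin m) F} (hA : Aᵀ * A.map (conj hF) = 1) : (bm e A)ᵀ * (bm e A).map (conj hF) = 1 := by
  have h1 : (bm e A).map (conj hF) = bm e (A.map (conj hF)) := map_bm (conj hF : F →+* F) e A
  rw [transpose_bm, h1, bm_mul he, hA, bm_one]

theorem uni_qI (hF : Fintype.card F = q ^ 2) : (qI : Matrix (Fin 2) (Fin 2) F)ᵀ * qI.map (conj hF) = 1 := by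
  ext i j
  fin_cases i <;> fin_cases j <;> simp [qI, Matrix.mul_apply, Fin.sum_univ_two]

theorem uni_qJ (hF : Fintype.card F = q ^ 2) {a c : F} (hac : a * a + c * c = -1) (ha : a ^ q = -a) (hc : c ^ q = -c) :
    (qJ a c)ᵀ * (qJ a c).map (conj hF) = 1 := by
  have ea : conj hF a = -a := ha
  have ec : conj hF c = -c := hc
  ext i j
  fin_cases i <;> fin_cases j <;> simp [qJ, Matrix.mul_apply, Fin.sum_univ_two, ea, ec] <;>
    first | linear_combination -hac | ring1

theorem uni_qB (hF : Fintype.card F = q ^ 2) (h2 : (2 : F) ≠ 0) {a c : F} (hac : a * a + c * c = -1)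
    (ha : a ^ q = -a) (hc : c ^ q = -c) : (qB a c)ᵀ * (qB a c).map (conj hF) = 1 := by
  have e2 : conj hF (2 : F) = 2 := map_ofNat _ 2
  have ea : conj hF a = -a := ha
  have ec : conj hF c = -c := hc
  ext i j
  rw [qB_eq]
  fin_cases i <;> fin_cases j <;>
    simp [Matrix.mul_apply, Fin.sum_univ_two, ea, ec, e2, map_inv₀] <;>
    field_simp <;> first | linear_combination -2 * hac | ring1

theorem uni_tT (hF : Fintype.card F = q ^ 2) : (tT : Matrix (Fin 3) (Fin 3) F)ᵀ * tT.map (conj hF) = 1 := by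
  ext i j
  fin_cases i <;> fin_cases j <;> simp [tT, Matrix.mul_apply, Fin.sum_univ_three]

theorem uni_tS (hF : Fintype.card F = q ^ 2) : (tS : Matrix (Fin 3) (Fin 3) F)ᵀ * tS.map (conj hF) = 1 := by
  ext i j
  fin_cases i <;> fin_cases j <;> simp [tS, Matrix.mul_apply, Fin.sum_univ_three]

/-- the matrices -/
def suM (n : ℕ) (F : Type*) [Field F] (q : ℕ) : SU n F q →* Matrix (Fin n) (Fin n) F where
  toFun g := mat g
  map_one' := rfl
  map_mul' _ _ := rfl

theorem prime_dvd (hF : Fintype.card F = q ^ 2) {p : ℕ} [hp : Fact p.Prime] [CharP F p] : p ∣ q := by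
  obtain ⟨k, hk, hc⟩ := FiniteField.card F p
  have h1 : p ∣ q ^ 2 := by
    rw [← hF, hc]
    exact dvd_pow_self p k.ne_zero
  exact hp.out.dvd_of_dvd_pow h1

/-- **`PSU_n(q)`, `n ≥ 3`.** -/
theorem not_DB_psu {p : ℕ} [hp : Fact p.Prime] [CharP F p] (h5 : 5 ≤ p) (hn : 3 ≤ n) (hF : Fintype.card F = q ^ 2)
    {π : Set ℕ} (h2 : 2 ∈ π) (h3 : 3 ∈ π) (hpπ : p ∉ π) : ¬ DB π (PSU n F q) := by
  have two : (2 : F) ≠ 0 := two_ne (p := p) h5
  obtain ⟨a, c, hac, ha, hc⟩ := exists_anti hF two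
  refine not_DB_of (p := p) h5 hn (suM n F q) (fun g g' h => mat_injective h) hac ?_ ?_ ?_ ?_ h2 h3 hpπ
  · intro e he A hA
    refine ⟨⟨⟨bm e A, by rw [det_bm he, det_of two hac hA]⟩, mem_SU_of hF ?_⟩, rfl⟩
    refine uni_block hF he ?_
    rcases hA with rfl | rfl | rfl
    · exact uni_qI hF
    · exact uni_qJ hF hac ha hc
    · exact uni_qB hF two hac ha hc
  · intro e he A hA
    refine ⟨⟨⟨bm e A, by rw [det_bm he, det_of3 hA]⟩, mem_SU_of hF ?_⟩, rfl⟩
    refine uni_block hF he ?_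
    rcases hA with rfl | rfl
    · exact uni_tT hF
    · exact uni_tS hF
  · intro α
    have h32 : ¬ (n = 3 ∧ q = 2) := by
      rintro ⟨-, rfl⟩
      have h6 := prime_dvd hF (p := p)
      have := Nat.le_of_dvd (by norm_num) h6
      omega
    obtain ⟨A, ρ, rfl⟩ := Cfsg.Agent.ClassicalGeometry.PSUAutMain.exists_toAut hF hn h32 α
    refine ⟨Cfsg.Agent.ClassicalGeometry.PSUAutCount.gm A, Cfsg.Agent.ClassicalGeometry.PSUAutCount.gm A⁻¹,
      Cfsg.Agent.ClassicalGeometry.PSUAutCount.gm_mul_inv A, ?_⟩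
    intro g hg
    refine ⟨Cfsg.Agent.ClassicalGeometry.PSUAutCount.semiConj A ρ g, rfl, ?_⟩
    have e1 : (mat g).map ρ = mat g := by
      change (suM n F q g).map ρ = suM n F q g
      rcases hg with hg | hg
      · rw [hg]
        exact (map_bm (ρ : F →+* F) _ _).trans (by rw [map_tT])
      · rw [hg]
        exact (map_bm (ρ : F →+* F) _ _).trans (by rw [map_tS])
    change Cfsg.Agent.ClassicalGeometry.PSUAutCount.gm A * (mat g).map ρ *
      Cfsg.Agent.ClassicalGeometry.PSUAutCount.gm A⁻¹ = _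
    rw [e1]
    rfl
  · rw [S0279.result hF n hn]
    intro hd
    have h6 : p ∣ q + 1 := hd.trans (Nat.gcd_dvd_right _ _)
    have h7 : p ∣ 1 := (Nat.dvd_add_right (prime_dvd hF)).mp h6
    exact hp.out.one_lt.ne' (Nat.dvd_one.mp h7)

end

universe u

/-- **Row R5, `PSU_n(q)`, `n ≥ 3`.** -/
theorem psu_row {π : Set ℕ} {S : Type u} [Group S] {p : ℕ} (h2 : 2 ∈ π) (h3 : 3 ∈ π) (hp : p.Prime)
    (hpπ : p ∉ π) (h : IsPSUChar p S) : ¬ DB π S := by
  have : Fact p.Prime := ⟨hp⟩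
  obtain ⟨F, _, _, _, n, q, hF, hn, -, ⟨e⟩⟩ := h
  have h5 : 5 ≤ p := by
    have h6 : p ≠ 2 := fun h => hpπ (h ▸ h2)
    have h7 : p ≠ 3 := fun h => hpπ (h ▸ h3)
    have h8 := hp.two_le
    by_contra h9
    have h10 : p = 4 := by omega
    rw [h10] at hp
    exact absurd hp (by norm_num)
  intro h
  exact not_DB_psu (F := F) (n := n) h5 hn hF h2 h3 hpπ (Cfsg.Agent.H808.RV.DB.congr e h)

/-- **Row R5, linear groups**: reduction to `PSL_2(q)`. -/
theorem pslChar_row {π : Set ℕ} {S : Type u} [Group S] {p : ℕ} (h2 : 2 ∈ π) (h3 : 3 ∈ π) (hp : p.Prime)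
    (hpπ : p ∉ π) (h : IsPSLChar p S) :
    (∃ (F : Type) (_ : Field F) (_ : Fintype F), CharP F p ∧ 4 ≤ Fintype.card F ∧
      Nonempty (S ≃* ProjectiveSpecialLinearGroup (Fin 2) F)) ∨ ¬ DB π S := by
  obtain ⟨F, _, _, _, n, hn, h4, ⟨e⟩⟩ := h
  by_cases h3' : 3 ≤ n
  · exact Or.inr (psl_row h2 h3 hp hpπ h3' e)
  · obtain rfl : n = 2 := by omega
    exact Or.inl ⟨F, inferInstance, inferInstance, inferInstance, h4 rfl, ⟨e⟩⟩

end Cfsg.Agent.H554.RV
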