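import Mathlib

/-!
# Frames of two-dimensional supports in linear groups of order prime to the characteristic (helper554, TEAM RV)

A finite group `X` acts on `V`; for `i` in a finite set `ι` it contains an `SL_2(3)` acting on a plane `D i = range (E i)`
and trivially on a complement `ker (R i)`, `dim V ≤ 2 |ι| + 1`. If the sixty degree theorem holds (hypothesis `h60`),
then `X` permutes the planes `D i` (`frame_perm`); an element `y` with `y ^ 3 = 1` whose fixed space has codimension at
most `3` stabilises every `D i` (`frame_stab`); an alternating group `A_4` acting on a three-dimensional space is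
impossible (`frame_false`).
-/

set_option autoImplicit false

namespace Cfsg.Agent.H554.RV

open Module LinearMap

theorem finrank_map_inj {k V : Type*} [Field k] [AddCommGroup V] [Module k V] {f : Module.End k V}
    (hf : Function.Injective f) (p : Submodule k V) : finrank k (p.map f) = finrank k p :=
  (Submodule.equivMapOfInjective f hf p).finrank_eq.symm

section Blk

variable {k V W : Type*} [Field k] [AddCommGroup V] [Module k V] [AddCommGroup W] [Module k W]

/-- the block endomorphism: `A` on the image of `E`, the identity on the kernel of `R` (`R E = 1`) -/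
def blk (E : W →ₗ[k] V) (R : V →ₗ[k] W) (A : Module.End k W) : Module.End k V := 1 + E ∘ₗ (A - 1) ∘ₗ R

variable {E : W →ₗ[k] V} {R : V →ₗ[k] W}

theorem blk_apply (A : Module.End k W) (v : V) : blk E R A v = v + E (A (R v) - R v) := rfl

theorem blk_one : blk E R 1 = 1 := by
  ext v
  simp [blk_apply]

theorem blk_mul (h : ∀ w, R (E w) = w) (A B : Module.End k W) : blk E R A * blk E R B = blk E R (A * B) := by
  ext v
  rw [Module.End.mul_apply, blk_apply, blk_apply, blk_apply, Module.End.mul_apply]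
  simp only [map_add, map_sub, h]
  abel

theorem blk_add (A B : Module.End k W) : blk E R A + blk E R B - 1 = blk E R (A + B - 1) := by
  ext v
  simp only [blk_apply, LinearMap.add_apply, LinearMap.sub_apply, Module.End.one_apply, map_sub, map_add]
  abel

theorem blk_E (h : ∀ w, R (E w) = w) (A : Module.End k W) (w : W) : blk E R A (E w) = E (A w) := by
  rw [blk_apply, h, map_sub]
  abel

theorem blk_ker {A : Module.End k W} {v : V} (h : R v = 0) : blk E R A v = v := by
  rw [blk_apply, h, map_zero, sub_zero, map_zero, add_zero]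

theorem blk_pow (h : ∀ w, R (E w) = w) (A : Module.End k W) (m : ℕ) : blk E R A ^ m = blk E R (A ^ m) := by
  induction m with
  | zero => rw [pow_zero, pow_zero, blk_one]
  | succ m ih => rw [pow_succ, pow_succ, ih, blk_mul h]

theorem blk_sixty (h : ∀ w, R (E w) = w) {A : Module.End k W} (hA : A * A - A + 1 = 0) :
    (blk E R A - 1) * (blk E R A * blk E R A - blk E R A + 1) = 0 := by
  have h0 : ∀ w, A (A w) - A w + w = 0 := fun w => by
    have := congrArg (fun f : Module.End k W => f w) hA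
    exact this
  ext v
  have h1 : (blk E R A * blk E R A - blk E R A + 1) v = v + E (A (A (R v)) - A (R v)) := by
    rw [blk_mul h]
    simp only [blk_apply, LinearMap.add_apply, LinearMap.sub_apply, Module.End.one_apply, map_sub,
      Module.End.mul_apply]
    abel
  rw [Module.End.mul_apply, h1]
  have h2 : A (A (R v)) - A (R v) = - R v := by
    rw [eq_neg_iff_add_eq_zero]
    exact h0 _
  have h3 : R (v + E (-R v)) = 0 := by rw [map_add, h, add_neg_cancel]
  rw [h2, LinearMap.sub_apply, blk_ker h3, Module.End.one_apply, sub_self, LinearMap.zero_apply]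

end Blk

section Frame

variable {k V W X ι : Type*} [Field k] [AddCommGroup V] [Module k V] [AddCommGroup W] [Module k W]
  [Group X] [Fintype ι]

/-- the frame data: `D i = range (E i)`, `I, J` generate a quaternion group on `W`, `B = (1 + I + J + I J) / 2`; `X`
contains the block elements. -/
structure Frm (ρ : X →* Module.End k V) (E : ι → W →ₗ[k] V) (R : ι → V →ₗ[k] W) (I J : Module.End k W) : Prop where
  h60 : ∀ t t' : X, (ρ t - 1) * (ρ t * ρ t - ρ t + 1) = 0 → (ρ t' - 1) * (ρ t' * ρ t' - ρ t' + 1) = 0 →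
    ρ (t ^ 3) * ρ t' = ρ t' * ρ (t ^ 3)
  two : (2 : k) ≠ 0
  RE : ∀ i w, R i (E i w) = w
  RE' : ∀ i j w, i ≠ j → R i (E j w) = 0
  fW : finrank k W = 2
  fV : finrank k V ≤ 2 * Fintype.card ι + 1
  II : I * I = -1
  JJ : J * J = -1
  IJ : I * J = -(J * I)
  irr : ∀ M : Module.End k W, M * I = I * M → M * J = J * M → M * M = 1 → M = 1 ∨ M = -1
  hb : ∀ i, ∃ b : X, ρ b = blk (E i) (R i) ((2 : k)⁻¹ • (1 + I + J + I * J))
  hx : ∀ i, ∃ x : X, ρ x = blk (E i) (R i) I
  hy : ∀ i, ∃ y : X, ρ y = blk (E i) (R i) J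

variable {ρ : X →* Module.End k V} {E : ι → W →ₗ[k] V} {R : ι → V →ₗ[k] W} {I J : Module.End k W}

theorem hurwitz {I J : Module.End k W} (two : (2 : k) ≠ 0) (II : I * I = -1) (JJ : J * J = -1)
    (IJ : I * J = -(J * I)) {B : Module.End k W} (hB : B = (2 : k)⁻¹ • (1 + I + J + I * J)) :
    B * B - B + 1 = 0 ∧ B ^ 3 = -1 ∧ B - I * B * I = 1 + I ∧ B - J * B * J = 1 + J := by
  have JI : J * I = -(I * J) := by rw [IJ, neg_neg]
  have e1 : I * (I * J) = -J := by rw [← mul_assoc, II, neg_one_mul]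
  have e2 : J * (I * J) = I := by rw [← mul_assoc, JI, neg_mul, mul_assoc, JJ, mul_neg, mul_one, neg_neg]
  have e3 : I * J * I = J := by rw [mul_assoc, JI, mul_neg, e1, neg_neg]
  have e4 : I * J * J = -I := by rw [mul_assoc, JJ, mul_neg, mul_one]
  have e5 : I * J * (I * J) = -1 := by rw [mul_assoc, e2, II]
  have hQ : (1 + I + J + I * J) * (1 + I + J + I * J) = (2 : k) • (1 + I + J + I * J) - (4 : k) • 1 := by
    have : (1 + I + J + I * J) * (1 + I + J + I * J) =
        1 + I + J + I * J + (I + I * I + I * J + I * (I * J)) + (J + J * I + J * J + J * (I * J)) +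
        (I * J + I * J * I + I * J * J + I * J * (I * J)) := by noncomm_ring
    rw [this, II, JJ, JI, e1, e2, e3, e4, e5, two_smul, show (4 : k) = 2 + 2 by norm_num, add_smul, two_smul]
    abel
  have h4 : (2 : k)⁻¹ * (2 : k)⁻¹ * 4 = 1 := by
    rw [show (4 : k) = 2 * 2 by norm_num]
    field_simp
  have hBB : B * B = B - 1 := by
    rw [hB, smul_mul_smul_comm, hQ, smul_sub, smul_smul, smul_smul, h4, one_smul, mul_assoc,
      inv_mul_cancel₀ two, mul_one]
  refine ⟨by rw [hBB]; abel, ?_, ?_, ?_⟩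
  · rw [pow_succ, pow_two, hBB, sub_mul, hBB, one_mul]; abel
  · have h1 : I * B * I = (2 : k)⁻¹ • (I * (1 + I + J + I * J) * I) := by
      rw [hB, mul_smul_comm, smul_mul_assoc]
    have h2 : I * (1 + I + J + I * J) * I = I * I + I * I * I + I * J * I + I * (I * J) * I := by noncomm_ring
    rw [h1, h2, II, e3, e1, hB, ← smul_sub, neg_mul, neg_mul, one_mul, JI, neg_neg]
    have h3 : (1 + I + J + I * J - (-1 + -I + J + I * J)) = (2 : k) • (1 + I) := by
      rw [two_smul]; abel
    rw [h3, smul_smul, inv_mul_cancel₀ two, one_smul]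
  · have h1 : J * B * J = (2 : k)⁻¹ • (J * (1 + I + J + I * J) * J) := by
      rw [hB, mul_smul_comm, smul_mul_assoc]
    have h2 : J * (1 + I + J + I * J) * J = J * J + J * I * J + J * J * J + J * (I * J) * J := by noncomm_ring
    rw [h1, h2, JJ, JI, neg_mul, e4, e2, hB, ← smul_sub, neg_mul, one_mul, neg_neg]
    have h3 : (1 + I + J + I * J - (-1 + I + -J + I * J)) = (2 : k) • (1 + J) := by
      rw [two_smul]; abel
    rw [h3, smul_smul, inv_mul_cancel₀ two, one_smul]

namespace Frm

variable (H : Frm ρ E R I J)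
include H

theorem inj_E (i : ι) : Function.Injective (E i) := fun a b h => by
  rw [← H.RE i a, h, H.RE]

theorem finrank_D (i : ι) : finrank k (range (E i)) = 2 := by
  rw [LinearMap.finrank_range_of_inj (H.inj_E i), H.fW]

theorem mem_D_iff {i : ι} {v : V} : v ∈ range (E i) ↔ E i (R i v) = v := by
  constructor
  · rintro ⟨w, rfl⟩
    rw [H.RE]
  · intro h
    exact ⟨_, h⟩

/-- the central involutions of the blocks -/
theorem exists_z (i : ι) : ∃ b x y : X, ρ b = blk (E i) (R i) ((2 : k)⁻¹ • (1 + I + J + I * J)) ∧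
    ρ x = blk (E i) (R i) I ∧ ρ y = blk (E i) (R i) J ∧ ρ (b ^ 3) = blk (E i) (R i) (-1) ∧
    (ρ b - 1) * (ρ b * ρ b - ρ b + 1) = 0 := by
  obtain ⟨b, hb⟩ := H.hb i
  obtain ⟨x, hx⟩ := H.hx i
  obtain ⟨y, hy⟩ := H.hy i
  obtain ⟨h1, h2, -, -⟩ := hurwitz H.two H.II H.JJ H.IJ (B := (2 : k)⁻¹ • (1 + I + J + I * J)) rfl
  refine ⟨b, x, y, hb, hx, hy, ?_, ?_⟩
  · rw [map_pow, hb, blk_pow (H.RE i), h2]
  · rw [hb]
    exact blk_sixty (H.RE i) h1

theorem comm_blk {h : X} {i j : ι} {b : X} (hb : ρ (b ^ 3) = blk (E i) (R i) (-1))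
    (hb' : (ρ b - 1) * (ρ b * ρ b - ρ b + 1) = 0) {T : Module.End k V}
    (hT : T = ρ (h * b ^ 3 * h⁻¹)) :
    T * blk (E j) (R j) (-1) = blk (E j) (R j) (-1) * T ∧ T * blk (E j) (R j) I = blk (E j) (R j) I * T ∧
      T * blk (E j) (R j) J = blk (E j) (R j) J * T := by
  obtain ⟨c, x, y, hc, hx, hy, hc3, hc6⟩ := H.exists_z j
  obtain ⟨-, -, h3, h4⟩ := hurwitz H.two H.II H.JJ H.IJ (B := (2 : k)⁻¹ • (1 + I + J + I * J)) rfl
  set B : Module.End k W := (2 : k)⁻¹ • (1 + I + J + I * J) with hB
  have inv_of : ∀ {g : X} {A A' : Module.End k W}, ρ g = blk (E j) (R j) A → A * A' = 1 → A' * A = 1 →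
      ρ g⁻¹ = blk (E j) (R j) A' := by
    intro g A A' hg hA hA'
    have e1 : ρ g⁻¹ * ρ g = 1 := by rw [← map_mul, inv_mul_cancel, map_one]
    calc ρ g⁻¹ = ρ g⁻¹ * (blk (E j) (R j) A * blk (E j) (R j) A') := by
          rw [blk_mul (H.RE j), hA, blk_one, mul_one]
      _ = blk (E j) (R j) A' := by rw [← hg, ← mul_assoc, e1, one_mul]
  -- conjugates of elements with the sixty degree property
  have conj6 : ∀ g t : X, (ρ t - 1) * (ρ t * ρ t - ρ t + 1) = 0 →
      (ρ (g * t * g⁻¹) - 1) * (ρ (g * t * g⁻¹) * ρ (g * t * g⁻¹) - ρ (g * t * g⁻¹) + 1) = 0 := by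
    intro g t ht
    have e1 : ρ g⁻¹ * ρ g = 1 := by rw [← map_mul, inv_mul_cancel, map_one]
    have e2 : ρ g * ρ g⁻¹ = 1 := by rw [← map_mul, mul_inv_cancel, map_one]
    have e3 : ρ (g * t * g⁻¹) - 1 = ρ g * (ρ t - 1) * ρ g⁻¹ := by
      rw [map_mul, map_mul, mul_sub, sub_mul, mul_one, e2]
    have e4 : ρ (g * t * g⁻¹) * ρ (g * t * g⁻¹) - ρ (g * t * g⁻¹) + 1 =
        ρ g * (ρ t * ρ t - ρ t + 1) * ρ g⁻¹ := by
      rw [map_mul, map_mul, mul_add, mul_sub, add_mul, sub_mul, mul_one, e2]
      congr 2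
      calc ρ g * ρ t * ρ g⁻¹ * (ρ g * ρ t * ρ g⁻¹) = ρ g * ρ t * (ρ g⁻¹ * ρ g) * ρ t * ρ g⁻¹ := by
            noncomm_ring
        _ = _ := by rw [e1]; noncomm_ring
    rw [e3, e4]
    calc ρ g * (ρ t - 1) * ρ g⁻¹ * (ρ g * (ρ t * ρ t - ρ t + 1) * ρ g⁻¹) =
        ρ g * ((ρ t - 1) * (ρ g⁻¹ * ρ g) * (ρ t * ρ t - ρ t + 1)) * ρ g⁻¹ := by noncomm_ring
      _ = 0 := by rw [e1, mul_one, ht, mul_zero, zero_mul]
  have hT' : T = ρ ((h * b * h⁻¹) ^ 3) := by
    rw [hT, conj_pow]
  have key : ∀ t : X, (ρ t - 1) * (ρ t * ρ t - ρ t + 1) = 0 → T * ρ t = ρ t * T := by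
    intro t ht
    rw [hT']
    exact H.h60 _ _ (conj6 h b hb') ht
  have hcT := key c hc6
  have hadd : ∀ {A C : Module.End k W}, T * blk (E j) (R j) A = blk (E j) (R j) A * T →
      T * blk (E j) (R j) C = blk (E j) (R j) C * T →
      T * blk (E j) (R j) (A + C - 1) = blk (E j) (R j) (A + C - 1) * T := by
    intro A C hA hC
    rw [← blk_add, mul_sub, sub_mul, mul_add, add_mul, hA, hC, mul_one, one_mul]
  refine ⟨?_, ?_, ?_⟩
  · rw [← hc3, map_pow]
    exact (Commute.pow_right (show Commute T (ρ c) from hcT) 3).eq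
  · have h5 := key _ (conj6 x c hc6)
    rw [map_mul, map_mul, hx, hc, inv_of hx (A' := -I) (by rw [mul_neg, H.II, neg_neg])
      (by rw [neg_mul, H.II, neg_neg]), blk_mul (H.RE j), blk_mul (H.RE j)] at h5
    rw [hc] at hcT
    have h6 := hadd hcT h5
    have h7 : B + I * B * -I - 1 = I := by
      rw [mul_neg, ← sub_eq_add_neg, h3]; abel
    rwa [h7] at h6
  · have h5 := key _ (conj6 y c hc6)
    rw [map_mul, map_mul, hy, hc, inv_of hy (A' := -J) (by rw [mul_neg, H.JJ, neg_neg])
      (by rw [neg_mul, H.JJ, neg_neg]), blk_mul (H.RE j), blk_mul (H.RE j)] at h5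
    rw [hc] at hcT
    have h6 := hadd hcT h5
    have h7 : B + J * B * -J - 1 = J := by
      rw [mul_neg, ← sub_eq_add_neg, h4]; abel
    rwa [h7] at h6

/-- the involution `T` is a scalar on every plane of the frame -/
theorem T_E {h : X} {i j : ι} {b : X} (hb : ρ (b ^ 3) = blk (E i) (R i) (-1))
    (hb' : (ρ b - 1) * (ρ b * ρ b - ρ b + 1) = 0) {T : Module.End k V}
    (hT : T = ρ (h * b ^ 3 * h⁻¹)) : (∀ w, T (E j w) = E j w) ∨ ∀ w, T (E j w) = - E j w := by
  obtain ⟨c1, c2, c3⟩ := H.comm_blk (j := j) hb hb' hT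
  have hTT : T * T = 1 := by
    rw [hT, ← map_mul]
    have e : h * b ^ 3 * h⁻¹ * (h * b ^ 3 * h⁻¹) = h * (b ^ 3 * b ^ 3) * h⁻¹ := by group
    rw [e, map_mul, map_mul, map_mul, hb, blk_mul (H.RE i)]
    have e2 : (-1 : Module.End k W) * -1 = 1 := by rw [neg_mul_neg, one_mul]
    rw [e2, blk_one, mul_one, ← map_mul, mul_inv_cancel, map_one]
  have hu : ∀ w, E j (R j (T (E j w))) = T (E j w) := by
    intro w
    have h1 := congrArg (fun f : Module.End k V => f (E j w)) c1
    change T (blk (E j) (R j) (-1) (E j w)) = blk (E j) (R j) (-1) (T (E j w)) at h1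
    rw [blk_E (H.RE j), blk_apply, LinearMap.neg_apply, Module.End.one_apply, map_neg, map_neg, LinearMap.neg_apply,
      Module.End.one_apply] at h1
    have h2 : (2 : k) • E j (R j (T (E j w))) = (2 : k) • T (E j w) := by
      rw [two_smul, two_smul]
      have h3 : -R j (T (E j w)) - R j (T (E j w)) = -(R j (T (E j w)) + R j (T (E j w))) := by abel
      rw [h3, map_neg, map_add] at h1
      have h4 : T (E j w) + T (E j w) = T (E j w) + (E j (R j (T (E j w))) + E j (R j (T (E j w)))) +
        -T (E j w) + -T (E j w) + T (E j w) + T (E j w) - (E j (R j (T (E j w))) + E j (R j (T (E j w)))) +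
        T (E j w) := by abel
      have h5 : -T (E j w) = T (E j w) - (E j (R j (T (E j w))) + E j (R j (T (E j w)))) := by
        rw [h1]; abel
      have h6 : T (E j w) + T (E j w) - (E j (R j (T (E j w))) + E j (R j (T (E j w)))) = 0 := by
        have : T (E j w) + T (E j w) - (E j (R j (T (E j w))) + E j (R j (T (E j w)))) =
          T (E j w) + (T (E j w) - (E j (R j (T (E j w))) + E j (R j (T (E j w))))) := by abel
        rw [this, ← h5]; abel
      exact (sub_eq_zero.mp h6).symm
    exact smul_right_injective V H.two h2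
  set M : Module.End k W := (R j) ∘ₗ T ∘ₗ (E j) with hM
  have hMa : ∀ w, M w = R j (T (E j w)) := fun w => rfl
  have hTE : ∀ w, T (E j w) = E j (M w) := fun w => by rw [hMa, hu]
  have hcomm : ∀ {A : Module.End k W}, T * blk (E j) (R j) A = blk (E j) (R j) A * T → M * A = A * M := by
    intro A hA
    ext w
    apply H.inj_E j
    have h1 := congrArg (fun f : Module.End k V => f (E j w)) hA
    change T (blk (E j) (R j) A (E j w)) = blk (E j) (R j) A (T (E j w)) at h1
    rw [blk_E (H.RE j), hTE, hTE, blk_E (H.RE j)] at h1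
    exact h1
  have hMM : M * M = 1 := by
    ext w
    apply H.inj_E j
    have h1 := congrArg (fun f : Module.End k V => f (E j w)) hTT
    change T (T (E j w)) = E j w at h1
    rw [hTE, hTE] at h1
    exact h1
  rcases H.irr M (hcomm c2) (hcomm c3) hMM with h1 | h1
  · left
    intro w
    rw [hTE, h1, Module.End.one_apply]
  · right
    intro w
    rw [hTE, h1, LinearMap.neg_apply, Module.End.one_apply, map_neg]

/-- the sum of the planes -/
theorem sum_inj : Function.Injective (fun w : ι → W => ∑ i, E i (w i)) := by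
  classical
  intro w w' h
  funext j
  have h1 : ∀ w : ι → W, R j (∑ i, E i (w i)) = w j := by
    intro w
    rw [map_sum, Finset.sum_eq_single j]
    · exact H.RE j _
    · intro i _ hij
      exact H.RE' j i _ (Ne.symm hij)
    · intro h; exact absurd (Finset.mem_univ j) h
  have h2 := congrArg (R j) h
  simpa only [h1] using h2

variable [FiniteDimensional k V]

/-- a subspace containing all planes has dimension at least `2 |ι|`. -/
theorem le_finrank {U : Submodule k V} (hU : ∀ i w, E i w ∈ U) : 2 * Fintype.card ι ≤ finrank k U := by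
  classical
  have hfin : FiniteDimensional k W := Module.finite_of_finrank_pos (by rw [H.fW]; norm_num)
  let Φ : (ι → W) →ₗ[k] U :=
    LinearMap.codRestrict U (∑ i, (E i) ∘ₗ (LinearMap.proj i : (ι → W) →ₗ[k] W)) (fun w => by
      rw [LinearMap.sum_apply]
      exact Submodule.sum_mem _ fun i _ => hU i _)
  have hΦ : Function.Injective Φ := by
    intro w w' h
    apply H.sum_inj
    have h1 := congrArg Subtype.val h
    have h2 : ∀ w : ι → W, ((Φ w : U) : V) = ∑ i, E i (w i) := by
      intro w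
      change (∑ i, (E i) ∘ₗ (LinearMap.proj i : (ι → W) →ₗ[k] W)) w = _
      rw [LinearMap.sum_apply]
      rfl
    rw [h2, h2] at h1
    exact h1
  have h3 := LinearMap.finrank_le_finrank_of_injective hΦ
  rwa [Module.finrank_pi_fintype, Finset.sum_const, Finset.card_univ, H.fW, smul_eq_mul, mul_comm] at h3

/-- `X` permutes the planes of the frame. -/
theorem perm (h : X) (i : ι) : ∃ j, (range (E i)).map (ρ h) = range (E j) := by
  obtain ⟨b, x, y, -, -, -, hb3, hb6⟩ := H.exists_z i
  set T : Module.End k V := ρ (h * b ^ 3 * h⁻¹) with hT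
  have hinj : Function.Injective (ρ h) := by
    have e1 : ρ h⁻¹ * ρ h = 1 := by rw [← map_mul, inv_mul_cancel, map_one]
    intro u v huv
    have := congrArg (ρ h⁻¹) huv
    change (ρ h⁻¹ * ρ h) u = (ρ h⁻¹ * ρ h) v at this
    rwa [e1] at this
  -- `T` is `-1` exactly on the image of `D i`
  have hTm : ∀ w, T (ρ h (E i w)) = - ρ h (E i w) := by
    intro w
    have e1 : ρ h⁻¹ * ρ h = 1 := by rw [← map_mul, inv_mul_cancel, map_one]
    have e2 : T * ρ h = ρ h * ρ (b ^ 3) := by
      rw [hT, map_mul, map_mul, mul_assoc, e1, mul_one]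
    have e3 := congrArg (fun f : Module.End k V => f (E i w)) e2
    change T (ρ h (E i w)) = ρ h (ρ (b ^ 3) (E i w)) at e3
    rw [e3, hb3, blk_E (H.RE i), LinearMap.neg_apply, Module.End.one_apply, map_neg, map_neg]
  have hTD : ∀ v, T v = - v → v ∈ (range (E i)).map (ρ h) := by
    intro v hv
    have e1 : ρ h * ρ h⁻¹ = 1 := by rw [← map_mul, mul_inv_cancel, map_one]
    have e2 : ρ h⁻¹ * T = ρ (b ^ 3) * ρ h⁻¹ := by
      rw [hT, ← map_mul, ← map_mul]
      congr 1
      group
    have e3 := congrArg (fun f : Module.End k V => f v) e2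
    change ρ h⁻¹ (T v) = ρ (b ^ 3) (ρ h⁻¹ v) at e3
    set u := ρ h⁻¹ v with hu
    rw [hv, map_neg, hb3, blk_apply, LinearMap.neg_apply, Module.End.one_apply] at e3
    have e4 : E i (R i u) = u := by
      have h3 : -R i u - R i u = -(R i u + R i u) := by abel
      rw [h3, map_neg, map_add] at e3
      have h6 : u + u - (E i (R i u) + E i (R i u)) = 0 := by
        have : u + u - (E i (R i u) + E i (R i u)) = u + (u + -(E i (R i u) + E i (R i u))) := by abel
        rw [this, ← e3]; abel
      apply smul_right_injective V H.two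
      change (2 : k) • E i (R i u) = (2 : k) • u
      rw [two_smul, two_smul]
      exact (sub_eq_zero.mp h6).symm
    refine ⟨u, H.mem_D_iff.mpr e4, ?_⟩
    have e5 := congrArg (fun f : Module.End k V => f v) e1
    exact e5
  by_contra hcon
  push Not at hcon
  have hfix : ∀ j w, T (E j w) = E j w := by
    intro j
    rcases H.T_E (j := j) hb3 hb6 hT with h1 | h1
    · exact h1
    · exfalso
      apply hcon j
      symm
      refine Submodule.eq_of_le_of_finrank_eq ?_ ?_
      · rintro _ ⟨w, rfl⟩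
        exact hTD _ (h1 w)
      · rw [H.finrank_D, finrank_map_inj hinj, H.finrank_D]
  have h1 := H.le_finrank (U := LinearMap.ker (T - 1)) (fun j w => by
    rw [LinearMap.mem_ker, LinearMap.sub_apply, hfix, Module.End.one_apply, sub_self])
  have h2 : Disjoint (LinearMap.ker (T - 1)) ((range (E i)).map (ρ h)) := by
    rw [Submodule.disjoint_def]
    rintro v hv ⟨_, ⟨w, rfl⟩, rfl⟩
    rw [LinearMap.mem_ker, LinearMap.sub_apply, hTm, Module.End.one_apply] at hv
    have h3 : (2 : k) • ρ h (E i w) = 0 := by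
      rw [two_smul]
      have : ρ h (E i w) + ρ h (E i w) = -(-ρ h (E i w) - ρ h (E i w)) := by abel
      rw [this, hv, neg_zero]
    exact (smul_eq_zero.mp h3).resolve_left H.two
  have h3 := Submodule.finrank_add_finrank_le_of_disjoint h2
  have h4 : finrank k ((range (E i)).map (ρ h) : Submodule k V) = 2 := by
    rw [finrank_map_inj hinj, H.finrank_D]
  have h5 := H.fV
  omega

theorem inj_rho (h : X) : Function.Injective (ρ h) := by
  have e1 : ρ h⁻¹ * ρ h = 1 := by rw [← map_mul, inv_mul_cancel, map_one]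
  intro u v huv
  have := congrArg (ρ h⁻¹) huv
  change (ρ h⁻¹ * ρ h) u = (ρ h⁻¹ * ρ h) v at this
  rwa [e1] at this

theorem eq_of_range_eq {i j : ι} (h : range (E i) = range (E j)) : i = j := by
  by_contra hij
  have h1 : ∀ w, E i w = 0 := by
    intro w
    have h2 : E i w ∈ range (E j) := h ▸ ⟨w, rfl⟩
    rw [H.mem_D_iff, H.RE' j i w (Ne.symm hij), map_zero] at h2
    exact h2.symm
  have h3 := H.finrank_D i
  have h4 : range (E i) = ⊥ := by
    rw [LinearMap.range_eq_bot]
    ext w
    exact h1 w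
  rw [h4, finrank_bot] at h3
  exact absurd h3 (by norm_num)

/-- An element of order `3` whose fixed space has codimension at most `3` stabilises every plane of the frame. -/
theorem stab {y : X} (hy3 : ρ y ^ 3 = 1) (hy : finrank k V ≤ finrank k (LinearMap.ker (ρ y - 1)) + 3) (i : ι) :
    (range (E i)).map (ρ y) = range (E i) := by
  obtain ⟨j, hj⟩ := H.perm y i
  obtain ⟨l, hl⟩ := H.perm y j
  by_cases hij : j = i
  · rw [hj, hij]
  exfalso
  have hjE : ∀ w, ∃ w', ρ y (E i w) = E j w' := fun w => by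
    have : ρ y (E i w) ∈ range (E j) := hj ▸ ⟨_, ⟨w, rfl⟩, rfl⟩
    obtain ⟨w', h⟩ := this
    exact ⟨w', h.symm⟩
  have hlE : ∀ w, ∃ w', ρ y (E j w) = E l w' := fun w => by
    have : ρ y (E j w) ∈ range (E l) := hl ▸ ⟨_, ⟨w, rfl⟩, rfl⟩
    obtain ⟨w', h⟩ := this
    exact ⟨w', h.symm⟩
  have hlj : l ≠ j := by
    rintro rfl
    apply hij
    have h1 : (range (E i)).map (ρ y) = (range (E l)).map (ρ y) := by rw [hj, hl]
    have h2 := Submodule.map_injective_of_injective (H.inj_rho y) h1
    exact (H.eq_of_range_eq h2).symm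
  have hli : l ≠ i := by
    rintro rfl
    apply hij
    have h1 : (((range (E l)).map (ρ y)).map (ρ y)).map (ρ y) = range (E l) := by
      rw [← Submodule.map_comp, ← Submodule.map_comp]
      have h2 : (ρ y) ∘ₗ ((ρ y) ∘ₗ (ρ y)) = LinearMap.id := by
        have : (ρ y) * ((ρ y) * (ρ y)) = 1 := by
          rw [← pow_two, ← pow_succ', hy3]
        exact this
      have h3 : (ρ y) ∘ₗ (ρ y) ∘ₗ (ρ y) = LinearMap.id := h2
      rw [LinearMap.comp_assoc, h3, Submodule.map_id]
    rw [hj, hl, hj] at h1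
    exact H.eq_of_range_eq h1
  have hdis : Disjoint (LinearMap.ker (ρ y - 1)) (range (E i) ⊔ range (E j)) := by
    rw [Submodule.disjoint_def]
    intro v hv hv'
    obtain ⟨_, ⟨w, rfl⟩, _, ⟨w', rfl⟩, rfl⟩ := Submodule.mem_sup.mp hv'
    rw [LinearMap.mem_ker, LinearMap.sub_apply, Module.End.one_apply, sub_eq_zero, map_add] at hv
    obtain ⟨u, hu⟩ := hjE w
    obtain ⟨u', hu'⟩ := hlE w'
    rw [hu, hu'] at hv
    have h1 := congrArg (R i) hv
    rw [map_add, map_add, H.RE, H.RE' i j _ (Ne.symm hij), H.RE' i l _ (Ne.symm hli), H.RE' i j _ (Ne.symm hij),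
      add_zero, add_zero] at h1
    rw [← h1, map_zero] at hu ⊢
    rw [← h1, map_zero, zero_add] at hv
    rw [map_zero] at hu
    rw [← hu, zero_add] at hv
    have h2 := congrArg (R j) hv
    rw [H.RE, H.RE' j l _ (Ne.symm hlj)] at h2
    rw [← h2, map_zero, zero_add]
  have h4 : finrank k (range (E i) ⊔ range (E j) : Submodule k V) = 4 := by
    have hd2 : Disjoint (range (E i)) (range (E j)) := by
      rw [Submodule.disjoint_def]
      rintro _ ⟨w, rfl⟩ h
      rw [H.mem_D_iff, H.RE' j i w hij, map_zero] at h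
      exact h.symm
    have h5 := Submodule.finrank_sup_add_finrank_inf_eq (range (E i)) (range (E j))
    rw [hd2.eq_bot, finrank_bot, H.finrank_D, H.finrank_D] at h5
    omega
  have h5 := Submodule.finrank_add_finrank_le_of_disjoint hdis
  omega

/-- the stabiliser of a plane -/
def St (ρ : X →* Module.End k V) (D : Submodule k V) : Subgroup X where
  carrier := {g | D.map (ρ g) = D}
  mul_mem' {a b} ha hb := by
    have h1 : D.map (ρ (a * b)) = (D.map (ρ b)).map (ρ a) := by
      rw [← Submodule.map_comp, map_mul]; rfl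
    exact h1.trans (by rw [show D.map (ρ b) = D from hb]; exact ha)
  one_mem' := by
    change D.map (ρ 1) = D
    rw [map_one]
    exact Submodule.map_id D
  inv_mem' {a} ha := by
    have h1 : (D.map (ρ a)).map (ρ a⁻¹) = D := by
      rw [← Submodule.map_comp]
      have e1 : ρ a⁻¹ * ρ a = 1 := by rw [← map_mul, inv_mul_cancel, map_one]
      have e2 : (ρ a⁻¹) ∘ₗ (ρ a) = LinearMap.id := e1
      rw [e2, Submodule.map_id]
    rwa [show D.map (ρ a) = D from ha] at h1

omit H [Fintype ι] [FiniteDimensional k V] in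
theorem mem_St {D : Submodule k V} {g : X} (hg : g ∈ St ρ D) {v : V} (hv : v ∈ D) : ρ g v ∈ D := by
  have h1 : D.map (ρ g) = D := hg
  rw [← h1]
  exact ⟨v, hv, rfl⟩

/-- An alternating group of degree four on a three-dimensional summand is impossible. -/
theorem false_of_A4 {E₀ : (Fin 3 → k) →ₗ[k] V} {R₀ : V →ₗ[k] (Fin 3 → k)} (hRE : ∀ w, R₀ (E₀ w) = w)
    {τ σ : Module.End k (Fin 3 → k)} (hτ : ∀ w, τ w = ![w 0, -w 1, -w 2]) (hσ : ∀ w, σ w = ![w 2, w 0, w 1])
    {t y : X} (ht : ρ t = blk E₀ R₀ τ) (hy : ρ y = blk E₀ R₀ σ) : False := by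
  have hττ : τ * τ = 1 := by
    ext w i
    rw [LinearMap.comp_apply, Module.End.mul_apply, hτ, hτ]
    fin_cases i <;> simp
  have hσ3 : σ * σ * σ = 1 := by
    ext w i
    rw [LinearMap.comp_apply, Module.End.mul_apply, Module.End.mul_apply, hσ, hσ, hσ]
    fin_cases i <;> simp
  have hker : finrank k V = finrank k (LinearMap.ker R₀) + 3 := by
    have h1 := LinearMap.finrank_range_add_finrank_ker R₀
    have h2 : range R₀ = ⊤ := LinearMap.range_eq_top.mpr fun w => ⟨E₀ w, hRE w⟩
    rw [h2, finrank_top, Module.finrank_fin_fun] at h1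
    omega
  have hst : ∀ {g : X} {A : Module.End k (Fin 3 → k)}, ρ g = blk E₀ R₀ A → A * A * A = 1 → ∀ i,
      g ∈ St ρ (range (E i)) := by
    intro g A hg hA i
    refine H.stab (y := g) ?_ ?_ i
    · rw [hg, blk_pow hRE, pow_succ, pow_two, hA, blk_one]
    · rw [hker]
      apply Nat.add_le_add_right
      apply Submodule.finrank_mono
      intro v hv
      rw [LinearMap.mem_ker] at hv
      rw [LinearMap.mem_ker, LinearMap.sub_apply, Module.End.one_apply, hg, blk_ker hv, sub_self]
  have htinv : ρ t⁻¹ = blk E₀ R₀ τ := by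
    have e1 : ρ t⁻¹ * ρ t = 1 := by rw [← map_mul, inv_mul_cancel, map_one]
    calc ρ t⁻¹ = ρ t⁻¹ * (ρ t * ρ t) := by rw [ht, blk_mul hRE, hττ, blk_one, mul_one]
      _ = blk E₀ R₀ τ := by rw [← mul_assoc, e1, one_mul, ht]
  have hyinv : ρ y⁻¹ = blk E₀ R₀ (σ * σ) := by
    have e1 : ρ y⁻¹ * ρ y = 1 := by rw [← map_mul, inv_mul_cancel, map_one]
    calc ρ y⁻¹ = ρ y⁻¹ * (ρ y * (ρ y * ρ y)) := by
          rw [hy, blk_mul hRE, blk_mul hRE, ← mul_assoc, hσ3, blk_one, mul_one]
      _ = blk E₀ R₀ (σ * σ) := by rw [← mul_assoc, e1, one_mul, hy, blk_mul hRE]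
  set g : X := y * (t * y * t⁻¹)⁻¹ with hg
  have hgρ : ρ g = blk E₀ R₀ (σ * (τ * (σ * σ) * τ)) := by
    have : g = y * (t * y⁻¹ * t⁻¹) := by rw [hg]; group
    rw [this, map_mul, map_mul, map_mul, ht, htinv, hy, hyinv, blk_mul hRE, blk_mul hRE, blk_mul hRE]
  have hgi : ∀ i, g ∈ St ρ (range (E i)) := by
    intro i
    refine mul_mem (hst hy hσ3 i) (inv_mem (hst (A := τ * σ * τ) ?_ ?_ i))
    · rw [map_mul, map_mul, ht, hy, htinv, blk_mul hRE, blk_mul hRE]
    · have : τ * σ * τ * (τ * σ * τ) * (τ * σ * τ) = τ * σ * (τ * τ) * σ * (τ * τ) * σ * τ := by noncomm_ring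
      rw [this, hττ, mul_one, mul_one]
      have : τ * σ * σ * σ * τ = τ * (σ * σ * σ) * τ := by noncomm_ring
      rw [this, hσ3, mul_one, hττ]
  have hyi : ∀ i, y ∈ St ρ (range (E i)) := fun i => hst hy hσ3 i
  have hA : ∀ w : Fin 3 → k, (σ * (τ * (σ * σ) * τ)) w = ![-w 0, -w 1, w 2] := by
    intro w
    simp only [Module.End.mul_apply, hτ, hσ]
    funext i
    fin_cases i <;> simp
  -- the coordinate `0` vanishes on every plane
  have h4 : (4 : k) ≠ 0 := by
    rw [show (4 : k) = 2 * 2 by norm_num]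
    exact mul_ne_zero H.two H.two
  have key0 : ∀ i, ∀ v ∈ range (E i), R₀ v 0 = 0 := by
    intro i v hv
    by_contra h0
    -- `E₀ (c, 0, 0)` lies in the plane
    have d1 : E₀ ![-(2 : k) * R₀ v 0, -(2 : k) * R₀ v 1, 0] ∈ range (E i) := by
      have h1 := sub_mem (mem_St (hgi i) hv) hv
      rw [hgρ, blk_apply, hA] at h1
      convert h1 using 1
      rw [add_sub_cancel_left]
      congr 1
      funext j
      fin_cases j <;> simp <;> ring
    have d2 : E₀ ![0, -(2 : k) * R₀ v 1, -(2 : k) * R₀ v 2] ∈ range (E i) := by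
      have h1 := sub_mem (mem_St (mul_mem (mul_mem (hyi i) (hgi i)) (inv_mem (hyi i))) hv) hv
      rw [map_mul, map_mul, hgρ, hy, hyinv, blk_mul hRE, blk_mul hRE, blk_apply, Module.End.mul_apply,
        Module.End.mul_apply, hA, Module.End.mul_apply, hσ, hσ, hσ] at h1
      convert h1 using 1
      rw [add_sub_cancel_left]
      congr 1
      funext j
      fin_cases j <;> simp <;> ring
    have d3 : E₀ ![-(2 : k) * R₀ v 0, 0, -(2 : k) * R₀ v 2] ∈ range (E i) := by
      have h1 := sub_mem (mem_St (mul_mem (mul_mem (inv_mem (hyi i)) (hgi i)) (hyi i)) hv) hv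
      rw [map_mul, map_mul, hgρ, hy, hyinv, blk_mul hRE, blk_mul hRE, blk_apply, Module.End.mul_apply,
        Module.End.mul_apply, hA, Module.End.mul_apply, hσ, hσ, hσ] at h1
      convert h1 using 1
      rw [add_sub_cancel_left]
      congr 1
      funext j
      fin_cases j <;> simp <;> ring
    have d4 : E₀ ![1, 0, 0] ∈ range (E i) := by
      have h1 := sub_mem (add_mem d1 d3) d2
      rw [← map_add, ← map_sub] at h1
      have h2 := (range (E i)).smul_mem ((-(4 : k) * R₀ v 0)⁻¹) h1
      rw [← map_smul] at h2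
      convert h2 using 2
      have h3 : -(4 : k) * R₀ v 0 ≠ 0 := mul_ne_zero (neg_ne_zero.mpr h4) h0
      funext j
      fin_cases j
      · simp
        field_simp
        ring
      · simp
      · simp
    have d5 : E₀ ![0, 1, 0] ∈ range (E i) := by
      have h1 := mem_St (hyi i) d4
      rw [hy, blk_E hRE, hσ] at h1
      simpa using h1
    have d6 : E₀ ![0, 0, 1] ∈ range (E i) := by
      have h1 := mem_St (hyi i) d5
      rw [hy, blk_E hRE, hσ] at h1
      simpa using h1
    have h5 : range E₀ ≤ range (E i) := by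
      rintro _ ⟨w, rfl⟩
      have : w = w 0 • ![1, 0, 0] + w 1 • ![0, 1, 0] + w 2 • ![0, 0, 1] := by
        funext j
        fin_cases j <;> simp
      rw [this, map_add, map_add, map_smul, map_smul, map_smul]
      exact add_mem (add_mem (Submodule.smul_mem _ _ d4) (Submodule.smul_mem _ _ d5)) (Submodule.smul_mem _ _ d6)
    have h6 := Submodule.finrank_mono h5
    rw [H.finrank_D, LinearMap.finrank_range_of_inj (fun a b h => by rw [← hRE a, h, hRE]),
      Module.finrank_fin_fun] at h6
    omega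
  have h5 := H.le_finrank (U := LinearMap.ker R₀) (fun i w => by
    rw [LinearMap.mem_ker]
    have hv : E i w ∈ range (E i) := ⟨w, rfl⟩
    have e0 := key0 i _ hv
    have e1 := key0 i _ (mem_St (hyi i) hv)
    have e2 := key0 i _ (mem_St (hyi i) (mem_St (hyi i) hv))
    have hR : ∀ u, R₀ (ρ y u) = σ (R₀ u) := by
      intro u
      rw [hy, blk_apply, map_add, hRE]
      abel
    rw [hR, hσ] at e1
    rw [hR, hR, hσ, hσ] at e2
    simp at e1 e2
    funext j
    fin_cases j
    · exact e0
    · exact e2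
    · exact e1)
  have h6 := H.fV
  omega

end Frm

end Frame

end Cfsg.Agent.H554.RV
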